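import Cfsg.Agent.Lib.Comp.Th.Gam

set_option maxRecDepth 100000
set_option Elab.async false

namespace Cfsg.Lib.Comp.Th

universe u

open Cfsg.Lib.MatB.T3

noncomputable def acc : List ℕ := [m1, m2, m3, m4, m5, m6, m7, m8, m9, m10, m11]

theorem in_let {x : ℕ} (h : x ∈ L) : In 248 rho ⊤ (mT x) :=
  ⟨gam x, trivial, by rw [show rho (gam x) = dl x from rho_ex.choose_spec x h]; exact dl_ok.2 x (by simp [L] at h; omega)⟩

theorem in_acc : ∀ A ∈ acc, In 248 rho ⊤ A := by
  rw [show acc = L.map mT from rfl]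
  intro A hA
  obtain ⟨x, hx, rfl⟩ := List.mem_map.1 hA
  exact in_let hx

end Cfsg.Lib.Comp.Th
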