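import Cfsg.Agent.Lib.Comp.Fast

set_option maxRecDepth 100000
set_option Elab.async false

namespace Cfsg.Lib.Comp.Th

universe u

def iv : ℕ → ℕ := (fun x => look (nat_lit 0xffef7cefae78df6d74cf2c70beeb6caeaa689e69648e28607de75c6da6585d65544d24503ce34c28b2091871440c2040) 6 x)

noncomputable def R : List (List ℕ × ℕ) := (apd [([1],1),
 ([2],1),
 ([3],1),
 ([4],1),
 ([5],1),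
 ([1,2],2),
 ([1,5],1),
 ([2,3],2),
 ([2,4],1),
 ([2,5],1),
 ([1,4,3,4,3,4,3,4,3],0),
 ([3,5],1),
 ([4,5],2),
 ([2,3,4,5],7),
 ([6],6),
 ([7,1,6,1],0),
 ([7,2,6,2],0),
 ([7,3,6,3],0),
 ([6,4],1),
 ([5,7,5,7,7,5,6,6,6],0),
 ([8],2),
 ([9,1,8,1],0),
 ([9,2,8,2],0),
 ([9,3,8,3],0),
 ([9,4,8,4],0),
 ([9,5,8,5],0),
 ([9,6,8,7,7],0),
 ([10,10,3,1],0),
 ([11,1,10,1],0),
 ([11,3,10,3],0),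
 ([11,5,10,5],0),
 ([4,5,11,4,10],1),
 ([11,2,3,1,2,10,2,1,3,2,5],0),
 ([4,11,4,2,3,1,2,4,10,4,2,1,3,2,3,5,4,11,4,2,3,1,2,5,11],0),
 ([11,8,10,8],0),
 ([5,7,7,11,6,6,5,7,7,10,6,6],0),
 ([1,3,7,11,7,11,7,11],0),
 ([1,3,7,11,6,10,7,11,6,10,7,11,6,10,7,11,6,10],0),
 ([4,7,7,10,6,6,4,7,7,10,6,6,4,7,7,10,6,6,4,7,7,10,5,4,3,4,5,6,6,6,5,4,3,4,5,7,4,3,4,3,1],0),
 ([6,7],0)]
 [([8,9],0),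
 ([10,11],0)])

def L : List ℕ := [1,2,3,4,5,6,7,8,9,10,11]

def LN : List ℕ := [1,2,3,4,5,6,7,8,9]

def LD : List ℕ := [1,2,3,4,5,6,7]

def LC : List ℕ := [1,3,4,5,6,7,8,9,10,11]

def LK : List ℕ := [1,3,4,5,6,7,8,9]

noncomputable def RN : List (List ℕ × ℕ) := [([1],1),
 ([2],1),
 ([3],1),
 ([4],1),
 ([5],1),
 ([1,2],2),
 ([1,5],1),
 ([2,3],2),
 ([2,4],1),
 ([2,5],1),
 ([1,4,3,4,3,4,3,4,3],0),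
 ([3,5],1),
 ([4,5],2),
 ([2,3,4,5],7),
 ([6],6),
 ([7,1,6,1],0),
 ([7,2,6,2],0),
 ([7,3,6,3],0),
 ([6,4],1),
 ([5,7,5,7,7,5,6,6,6],0),
 ([8],2),
 ([9,1,8,1],0),
 ([9,2,8,2],0),
 ([9,3,8,3],0),
 ([9,4,8,4],0),
 ([9,5,8,5],0),
 ([9,6,8,7,7],0),
 ([6,7],0),
 ([8,9],0)]

noncomputable def RD : List (List ℕ × ℕ) := [([1],1),
 ([2],1),
 ([3],1),
 ([4],1),
 ([5],1),
 ([1,2],2),
 ([1,5],1),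
 ([2,3],2),
 ([2,4],1),
 ([2,5],1),
 ([1,4,3,4,3,4,3,4,3],0),
 ([3,5],1),
 ([4,5],2),
 ([2,3,4,5],7),
 ([6],6),
 ([7,1,6,1],0),
 ([7,2,6,2],0),
 ([7,3,6,3],0),
 ([6,4],1),
 ([5,7,5,7,7,5,6,6,6],0),
 ([6,7],0)]

noncomputable def RC : List (List ℕ × ℕ) := [([1],1),
 ([3],1),
 ([4],1),
 ([5],1),
 ([1,5],1),
 ([1,4,3,4,3,4,3,4,3],0),
 ([3,5],1),
 ([4,5],2),
 ([6],6),
 ([7,1,6,1],0),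
 ([7,3,6,3],0),
 ([6,4],1),
 ([5,7,5,7,7,5,6,6,6],0),
 ([8],2),
 ([9,1,8,1],0),
 ([9,3,8,3],0),
 ([9,4,8,4],0),
 ([9,5,8,5],0),
 ([9,6,8,7,7],0),
 ([10,10,3,1],0),
 ([11,1,10,1],0),
 ([11,3,10,3],0),
 ([11,5,10,5],0),
 ([4,5,11,4,10],1),
 ([11,8,10,8],0),
 ([5,7,7,11,6,6,5,7,7,10,6,6],0),
 ([1,3,7,11,7,11,7,11],0),
 ([1,3,7,11,6,10,7,11,6,10,7,11,6,10,7,11,6,10],0),
 ([4,7,7,10,6,6,4,7,7,10,6,6,4,7,7,10,6,6,4,7,7,10,5,4,3,4,5,6,6,6,5,4,3,4,5,7,4,3,4,3,1],0),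
 ([6,7],0),
 ([8,9],0),
 ([10,11],0),
 ([3,4,5,6],8)]

end Cfsg.Lib.Comp.Th
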