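import Cfsg.Agent.Lib.Comp.Th.Acc

set_option maxRecDepth 100000
set_option Elab.async false

namespace Cfsg.Lib.Comp.Th

universe u

open Cfsg.Lib.MatB.T3

noncomputable def eD : List (ℕ × ℕ) := (apd [(3,7),
 (0,11),
 (0,8),
 (0,0),
 (0,0),
 (11,14),
 (0,9),
 (0,13),
 (0,16),
 (0,18),
 (0,13),
 (0,20),
 (0,15),
 (0,19),
 (0,24),
 (0,18),
 (0,25),
 (0,20),
 (27,19),
 (20,29),
 (0,20),
 (0,2),
 (0,4),
 (0,0),
 (0,0),
 (0,2),
 (7,0),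
 (2,7),
 (33,33),
 (36,34),
 (0,39),
 (0,36),
 (0,35),
 (0,41),
 (0,36),
 (0,42),
 (0,42),
 (0,43),
 (10,0),
 (0,12)]
 (apd [(11,48),
 (0,43),
 (0,49),
 (0,46),
 (0,50),
 (0,55),
 (0,52),
 (0,55),
 (20,0),
 (0,22),
 (50,10),
 (0,51),
 (0,2),
 (0,0),
 (0,1),
 (0,0),
 (62,63),
 (0,66),
 (0,61),
 (0,65),
 (0,70),
 (0,64),
 (0,72),
 (0,66),
 (0,68),
 (0,71),
 (0,75),
 (0,75),
 (0,73),
 (12,79),
 (0,75),
 (0,75),
 (0,75),
 (0,82),
 (0,77),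
 (0,84),
 (0,81),
 (0,80),
 (0,88),
 (0,87)]
 [(0,85),
 (0,25),
 (0,13),
 (78,78),
 (0,0)]))

theorem eD_ok : slpM 248 mR mI eD acc (fun l => cubeB 248 mR mI (nth mI l 29) (nth mI l 2) (nth mI l 0) 5 0) = true := by
  decide +kernel

theorem cube : 5 ^ 3 ∣ Nat.card rho.range := by
  obtain ⟨l, h, hl⟩ := cx.slp in_acc eD_ok
  exact cx.cube (hl _) (hl _) (hl _) (by norm_num) (by norm_num) h

theorem o19 : orderOf (rho (ev gam [4,8,5,2,6,5,10])) = 19 :=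
  cx.ord (rho_ev (by decide +kernel)) (i := 0) (by norm_num) (by norm_num) (by decide +kernel)

theorem o31 : orderOf (rho (ev gam [6,8,4,9,2,11,9,4,10,6])) = 31 :=
  cx.ord (rho_ev (by decide +kernel)) (i := 0) (by norm_num) (by norm_num) (by decide +kernel)

end Cfsg.Lib.Comp.Th
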