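import Cfsg.Agent.Lib.Comp.Th.Ord
import Cfsg.Agent.Lib.Comp.Thn.Cen

set_option maxRecDepth 100000

namespace Cfsg.Lib.Comp.Th

open Cfsg.Spor Cfsg.Lib.MatB.T3 Cfsg.Lib.MatB.J4L Cfsg.Lib.MatB.ThL

theorem gam_of (a : Th.Gen) : gam (ix a) = PresentedGroup.of a := by
  cases a <;> exact gam_ex.choose_spec.2.2.2.1 _ (by decide)

theorem gam_inv {x : ℕ} (h : x < 64) : gam (iv x) = (gam x)⁻¹ := (gam_iv.2 x h).2

theorem abc : (Subgroup.closure ({Th.a, Th.b, Th.c, Th.d, Th.e, Th.s, Th.t} : Set (FreeGroup Th.Gen))).map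
    (PresentedGroup.mk (coxRelators Th.edges ∪ {r | r ∈ Th.extra})) = H := by
  rw [MonoidHom.map_closure]
  refine le_antisymm ((Subgroup.closure_le _).2 ?_) (cl_le.2 ?_)
  · rintro _ ⟨_, rfl | rfl | rfl | rfl | rfl | rfl | rfl, rfl⟩ <;>
      exact Set.mem_of_eq_of_mem (gam_of _).symm (mem_cl (γ := gam) (by decide))
  · have h : ∀ a, FreeGroup.of a ∈ ({Th.a, Th.b, Th.c, Th.d, Th.e, Th.s, Th.t} : Set (FreeGroup Th.Gen)) →
        gam (ix a) ∈ Subgroup.closure ((PresentedGroup.mk (coxRelators Th.edges ∪ {r | r ∈ Th.extra})) ''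
          {Th.a, Th.b, Th.c, Th.d, Th.e, Th.s, Th.t}) := fun a ha => Subgroup.subset_closure ⟨_, ha, (gam_of a).symm⟩
    simp only [LN, List.forall_mem_cons, show gam 7 = (gam 6)⁻¹ from gam_inv (x := 6) (by norm_num),
      show gam 9 = (gam 8)⁻¹ from gam_inv (x := 8) (by norm_num), Subgroup.inv_mem_iff]
    exact ⟨h .a (by simp [Th.a]), h .b (by simp [Th.b]), h .c (by simp [Th.c]), h .d (by simp [Th.d]),
      h .e (by simp [Th.e]), h .s (by simp [Th.s]), h .s (by simp [Th.s]), h .t (by simp [Th.t]), h .t (by simp [Th.t]),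
      by simp⟩

theorem d_ord : Nat.card (cl gam LD) = 211341312 := d_card gam_iv gam_rel gam_ne

theorem ph_inj : Function.Injective ph :=
  have := Thn.nets_ok.finite LN
  fun a b e => (ph.rangeRestrict_surjective.bijective_of_nat_card_le (by
    rw [ph_range, card_all.2.2.2, Thn.card])).1 (Subtype.ext e)

theorem top_of_meet {K : Subgroup Spor.Th} [K.Normal] (h : K.subgroupOf (cl gam LD) ≠ ⊥) : K = ⊤ := by
  have h1 := (d_simple.eq_bot_or_eq_top_of_normal _ inferInstance).resolve_left h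
  rw [Subgroup.subgroupOf_eq_top] at h1
  have h2 := gam_rel.map (QuotientGroup.mk' K)
  have h3 := gam_iv.map (QuotientGroup.mk' K)
  set q : ℕ → Spor.Th ⧸ K := fun x => QuotientGroup.mk' K (gam x)
  have h4 : ∀ x ∈ LD, q x = 1 := fun x hx => (QuotientGroup.eq_one_iff _).2 (h1 (mem_cl hx))
  have i1 : q 11 = (q 10)⁻¹ := (h3.2 10 (by norm_num)).2
  have i2 : q 9 = (q 8)⁻¹ := (h3.2 8 (by norm_num)).2
  have a1 := h2 ([10, 10, 3, 1], 0) (by decide +kernel)
  have a2 := h2 ([1, 3, 7, 11, 7, 11, 7, 11], 0) (by decide +kernel)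
  have a3 := h2 ([11, 8, 10, 8], 0) (by decide +kernel)
  have a4 := h2 ([8], 2) (by decide +kernel)
  simp only [ev_cons, ev_nil, h4 1 (by decide), h4 3 (by decide), h4 7 (by decide), one_mul, mul_one, i1, zero_add,
    pow_one, ← mul_inv_rev, inv_eq_one, mul_assoc] at a1 a2 a3 a4
  have u : q 10 = 1 := by rwa [← mul_assoc, a1, one_mul] at a2
  have t : q 8 = 1 := by
    rw [u, inv_one, one_mul, one_mul] at a3
    rwa [pow_succ, pow_two, a3, one_mul] at a4
  rw [eq_top_iff, ← gam_top, cl_le]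
  intro x hx
  refine (QuotientGroup.eq_one_iff _).1 (show q x = 1 from ?_)
  rcases (by revert x; decide : x ∈ LD ∨ x = 8 ∨ x = 9 ∨ x = 10 ∨ x = 11) with k | rfl | rfl | rfl | rfl
  exacts [h4 x k, t, by rw [i2, t, inv_one], u, by rw [i1, u, inv_one]]

theorem o7 : orderOf (rho (ev gam ([4,8,5,2,6,5,10] ++ ([4] ++ [4,8,5,2,6,5,10] ++ [4])))) = 7 :=
  cx.ord (rho_ev (by decide +kernel)) (i := 0) (by norm_num) (by norm_num) (by decide +kernel)

theorem d_idx : (cl gam LD).index = 429381000 := by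
  have h := (cl gam LD).index_mul_card
  rw [d_ord, card_all.1] at h
  exact (fun a (h : a * 211341312 = 90745943887872000) => by omega : ∀ a, _ → a = 429381000) _ h

theorem simple : IsSimpleGroup Spor.Th := by
  have : Nontrivial Spor.Th := ⟨_, _, gam_ne⟩
  refine ⟨fun K hK => or_iff_not_imp_right.2 fun hn => ?_⟩
  have h0 : K ⊓ cl gam LD = ⊥ := by
    have := (by_contra fun h => hn (top_of_meet h) : K.subgroupOf (cl gam LD) = ⊥)
    rwa [Subgroup.subgroupOf_eq_bot, disjoint_iff] at this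
  have h1 := card_dvd K (cl gam LD)
  rw [h0, Subgroup.card_bot, d_idx, mul_one] at h1
  obtain ⟨o1, o2, o3⟩ := MatB.ThL.normal_orbit K H
  have := quo.1
  have o4 := inv_sum cover.1 cover.2 (by rw [sum_uV, ← card_all.2.2.1]; rfl) _ fun v _ => o3 (nd v.1)
  have o5 : ∀ d ∈ sums (Thn.uV.map (·.2.2.2.2.2)), d ∣ 429381000 → d = 1 ∨ 19 ∣ d := by decide +kernel
  rcases o5 _ o4 (o1.trans h1) with o6 | o6
  · have h2 : Nat.card K ∣ 3 := by
      have a2 := card_dvd (K.subgroupOf H) ((cl gam LD).subgroupOf H)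
      have a3 := ((cl gam LD).subgroupOf H).index_mul_card
      have a4 : cl gam LD ≤ H := cl_mono (by decide)
      rw [Nat.card_congr (Subgroup.subgroupOfEquivOfLe a4).toEquiv, d_ord, card_all.2.2.2] at a3
      have a5 : K.subgroupOf H ⊓ (cl gam LD).subgroupOf H = ⊥ := by
        rw [Subgroup.subgroupOf, Subgroup.subgroupOf, ← Subgroup.comap_inf, h0, Subgroup.comap_subtype,
          Subgroup.bot_subgroupOf]
      rwa [Nat.card_congr (Subgroup.subgroupOfEquivOfLe (o2 o6)).toEquiv, a5, Subgroup.card_bot, mul_one,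
        (fun a (h : a * 211341312 = 634023936) => by omega : ∀ a, _ → a = 3) _ a3] at a2
    obtain ⟨F, f1, f2⟩ := fix_conj (W := K) (a := gam 6) (by rw [Subgroup.normalizer_eq_top]; trivial)
      (p := 7) (by norm_num) (by simpa [ev_single] using gam_rel ([6], 6) (by decide +kernel))
    have h4 : F = ⊤ := Subgroup.eq_top_of_card_eq F (by
      have a1 := Nat.le_of_dvd (by norm_num) h2
      have a2 := F.card_le_card_group
      unfold Nat.ModEq at f2
      omega)
    have h5 : Subgroup.centralizer (K : Set Spor.Th) = ⊤ := top_of_meet fun e => by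
      have a1 : (⟨gam 6, mem_cl (by decide)⟩ : cl gam LD) ∈
          (Subgroup.centralizer (K : Set Spor.Th)).subgroupOf (cl gam LD) := fun w hw =>
        ((f1 ⟨w, hw⟩).1 (h4 ▸ Subgroup.mem_top _)).symm
      rw [e, Subgroup.mem_bot, Subtype.ext_iff] at a1
      exact (dl_ok.2 6 (by norm_num)).ne cx.one (p := 0) (by norm_num) (by decide +kernel)
        (by rw [← rho_gen 6 (by decide), show gam 6 = 1 from a1, map_one])
    refine (Subgroup.eq_bot_iff_forall K).2 fun c hc => ?_
    obtain ⟨g, rfl⟩ : c ∈ ph.range := ph_range ▸ o2 o6 hc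
    rw [show g = 1 from Subtype.ext (Thn.cen g.2 fun u hu => congrArg Subtype.val (show (⟨u, hu⟩ * g : cl _ LN) = g * ⟨u, hu⟩ from
      ph_inj (by
        rw [map_mul, map_mul]
        exact ((show _ ∈ Subgroup.centralizer (K : Set Spor.Th) from h5 ▸ Subgroup.mem_top _) _ hc).symm))), map_one]
  · have h3 := mem_normal_of_dvd (p := 19) (a := 1) (k := 1) (m := 4776102309888000) (by norm_num)
      (card_all.1.trans (by norm_num)) (by norm_num) K (o6.trans o1) (x := ev gam [4,8,5,2,6,5,10]) (by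
        rw [pow_one, ← o19, orderOf_injective rho card_all.2.1, pow_orderOf_eq_one])
    have h4 : ev gam ([4,8,5,2,6,5,10] ++ ([4] ++ [4,8,5,2,6,5,10] ++ [4])) ∈ K := by
      rw [ev_append, ev_append, ev_append, ev_single]
      nth_rewrite 2 [show gam 4 = (gam 4)⁻¹ from gam_inv (x := 4) (by norm_num)]
      exact K.mul_mem h3 (hK.conj_mem _ h3 _)
    have h5 := K.orderOf_dvd_natCard h4
    rw [← orderOf_injective rho card_all.2.1, o7] at h5
    exact absurd (h5.trans h1) (by norm_num)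

end Cfsg.Lib.Comp.Th
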