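import Cfsg.Agent.Lib.Comp.Th.Two
import Cfsg.Agent.Lib.Comp.Th.Low3
import Cfsg.Agent.Lib.Comp.Th.Low5
import Cfsg.Agent.Lib.Comp.Thn.Up

set_option maxRecDepth 100000

namespace Cfsg.Lib.Comp.Th

open Cfsg.Lib.MatB.T3 Cfsg.Lib.MatB.J4L Cfsg.Lib.MatB.ThL

theorem rho_gen : ∀ x ∈ L, rho (gam x) = dl x := rho_ex.choose_spec

theorem d_simple : IsSimpleGroup (cl gam LD) := by
  obtain ⟨e⟩ := d_iso gam_iv gam_rel gam_ne
  have := Thd.simple
  exact e.symm.isSimpleGroup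

theorem rho_d {g : Spor.Th} (hg : g ∈ cl gam LD) (h : rho g = 1) : g = 1 :=
  congrArg Subtype.val ((injective_iff_map_eq_one _).1 (inj_of_simple d_simple (f := rho.comp (cl gam LD).subtype)
    (g := ⟨gam 1, mem_cl (by decide)⟩) fun e => dl_ne ((rho_gen 1 (by decide)).symm.trans e)) ⟨g, hg⟩ h)

theorem exw_one : ev gam Thn.exw = 1 :=
  rho_d (Thn.wx _ gam _ gam_iv gam_rel (fun u hu => ev_mem fun x hx => mem_cl (by revert x u; decide)) _
    List.mem_cons_self) ((rho_ev (by decide +kernel)).eq cx.one (by decide +kernel))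

theorem rel_s : Rels gam (R ++ [(Thn.exw, 0)]) :=
  gam_rel.append (Rels.cons (by rw [zero_add, pow_one, exw_one]) (Rels.nil _))

theorem ph_ex : ∃ f : cl (gp Thn.nets) LN →* Spor.Th, PhiOK Thn.nets LN gam f :=
  hom_of_ord.{0, 0} The.n_ord Thn.nets_iv Thn.nets_rel gam_iv (rn _ _ gam_iv gam_rel) Thn.lb

/-- The control group mapped onto `H`. -/
noncomputable def ph : cl (gp Thn.nets) LN →* Spor.Th := ph_ex.choose

/-- The subgroup `³D₄(2) : 3`. -/
noncomputable abbrev H : Subgroup Spor.Th := cl gam LN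

theorem ph_range : ph.range = H := ph_ex.choose_spec.range

/-- The representatives of the orbits on the cosets of `H`. -/
noncomputable def nd : ℕ → Spor.Th ⧸ H :=
  letI : MulAction (cl (gp Thn.nets) LN) (Spor.Th ⧸ H) := MulAction.compHom _ ph
  nodeX Thn.nets (cl (gp Thn.nets) LN) (fun y : Spor.Th ⧸ H => (gam 10)⁻¹ • y) ((1 : Spor.Th) : Spor.Th ⧸ H) Thn.uPA

theorem cover : (∀ v ∈ Thn.uV, (MulAction.orbit H (nd v.1)).ncard ≤ v.2.2.2.2.2) ∧
    ∀ y, ∃ v ∈ Thn.uV, y ∈ MulAction.orbit H (nd v.1) := by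
  obtain ⟨h1, h2⟩ := sym_cover Thn.nets_ok Thn.ctl ph_ex.choose_spec gam_iv Thn.card
    (fun w hw => Subgroup.mem_bot.1 (Thn.gw.of_cons Thn.rs _ gam ⊥ gam_iv rel_s (by simp) w hw)) Thn.uP Thn.uS
    Thn.lev0.1 Thn.lev0.2 Thn.uA (H := H) (fun w hw => ev_mem fun x hx => mem_cl (by revert x w; decide))
    Thn.uD_ok Thn.uV_ok (by decide +kernel) gam_top
  refine ⟨fun v hv => orbit_phi ph ph_range (nd v.1) ▸ h1 v hv, fun y => ?_⟩
  obtain ⟨k, hk, e⟩ := h2 y
  obtain ⟨v, hv, rfl⟩ := List.mem_map.1 hk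
  exact ⟨v, hv, orbit_phi ph ph_range (nd v.1) ▸ e⟩

theorem h_le : Finite H ∧ Nat.card H ≤ 634023936 := The.n_ord _ _ gam_iv (rn _ _ gam_iv gam_rel)

instance : Finite H := h_le.1

theorem sum_uV : (Thn.uV.map (·.2.2.2.2.2)).sum = 143127000 := by decide +kernel

theorem quo : Finite (Spor.Th ⧸ H) ∧ H.index ≤ (Thn.uV.map fun v => (MulAction.orbit H (nd v.1)).ncard).sum := by
  obtain ⟨h1, h2⟩ := card_le_sum (l := Thn.uV) (S := fun v => MulAction.orbit H (nd v.1)) fun v _ => Set.finite_range _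
  rw [Set.eq_univ_of_forall (s := {y | ∃ v ∈ Thn.uV, y ∈ MulAction.orbit H (nd v.1)}) cover.2] at h1 h2
  exact ⟨Set.finite_univ_iff.1 h1, by rwa [Set.ncard_univ] at h2⟩

instance : Finite Spor.Th :=
  have := quo.1
  Finite.of_equiv _ (Subgroup.groupEquivQuotientProdSubgroup (s := H)).symm

theorem idx_le : H.index ≤ 143127000 := quo.2.trans (sum_uV ▸ List.sum_le_sum cover.1)

theorem range_dvd : 90745943887872000 ∣ Nat.card rho.range := by
  have h : ∀ w, orderOf (rho (ev gam w)) ∣ Nat.card rho.range := fun w => rho.range.orderOf_dvd_natCard ⟨_, rfl⟩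
  have h0 : ∀ M : List ℕ, (∀ x ∈ M, x ∈ L) → Nat.card (cl dl M) ∣ Nat.card rho.range := fun M hM =>
    Subgroup.card_dvd_of_le (cl_le.2 fun x hx => ⟨_, rho_gen x (hM x hx)⟩)
  have h1 := h0 LD (by decide)
  have h2 := h0 LC (by decide)
  rw [d_card dl_ok.1 dl_rel dl_ne] at h1
  rw [(c_card dl_ok.1 dl_rel dl_ne).1] at h2
  exact Dvd.dvd.trans (by decide +kernel) (Nat.lcm_dvd (Nat.lcm_dvd (Nat.lcm_dvd h1 h2) (Nat.lcm_dvd three cube))
    (Nat.lcm_dvd (o19 ▸ h _) (o31 ▸ h _)))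

theorem card_all : Nat.card Spor.Th = 90745943887872000 ∧ Function.Injective rho ∧ H.index = 143127000 ∧
    Nat.card H = 634023936 := by
  have h1 := H.index_mul_card
  have h2 := rho.ker.index_mul_card
  have h3 := Nat.le_of_dvd Nat.card_pos range_dvd
  have h5 : 0 < Nat.card rho.ker := Nat.card_pos
  rw [Subgroup.index_ker] at h2
  have h7 : ∀ a b c d e : ℕ, a * e = b → c * d = b → 90745943887872000 ≤ c → a ≤ 143127000 → 0 < d → e ≤ 634023936 →
      b = 90745943887872000 ∧ d = 1 ∧ a = 143127000 ∧ e = 634023936 := fun a b c d e e1 e2 e3 e4 e5 e6 => by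
    have := Nat.mul_le_mul e4 e6
    obtain rfl : d = 1 := by nlinarith
    obtain rfl : a = 143127000 := by nlinarith
    omega
  obtain ⟨a1, a2, a3⟩ := h7 _ _ _ _ _ h1 h2 h3 idx_le h5 h_le.2
  exact ⟨a1, (MonoidHom.ker_eq_bot_iff _).1 (Subgroup.eq_bot_of_card_eq _ a2), a3⟩

theorem orbit_eq : ∀ v ∈ Thn.uV, (MulAction.orbit H (nd v.1)).ncard = v.2.2.2.2.2 :=
  sum_exact cover.1 (by rw [sum_uV, ← card_all.2.2.1]; exact quo.2)

end Cfsg.Lib.Comp.Th
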