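import Cfsg.Agent.Lib.Comp.Thd.Main
import Cfsg.Agent.Lib.Comp.Th9.Main
import Cfsg.Agent.Lib.Comp.Subst2
import Cfsg.Agent.Lib.MatB.ThL

set_option maxRecDepth 100000

namespace Cfsg.Lib.Comp.Th

open Cfsg.Lib.MatB.ThL

variable {Γ : Type} [Group Γ] {γ : ℕ → Γ}

theorem d_iso (h1 : IvOK γ iv) (h2 : Rels γ R) (h : γ 1 ≠ 1) : Nonempty (cl (gp Thd.nets) LD ≃* cl γ LD) :=
  ⟨(embed_of_rels Thd.simple Thd.nets_iv Thd.nets_rel The.d_ord Thd.lb h1 (h2.mono (by decide +kernel))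
    (x := 1) (by decide) h).choose⟩

theorem d_card (h1 : IvOK γ iv) (h2 : Rels γ R) (h : γ 1 ≠ 1) : Nat.card (cl γ LD) = 211341312 := by
  obtain ⟨e⟩ := d_iso h1 h2 h
  exact (Nat.card_congr e.toEquiv).symm.trans Thd.card

theorem c_card (h1 : IvOK γ iv) (h2 : Rels γ R) (h : γ 1 ≠ 1) :
    Nat.card (cl γ LC) = 92897280 ∧ Nat.card (cl (gp Th9.nets) LC) = 181440 := by
  have r1 := The.rc _ _ h1 h2
  obtain ⟨f1, b1⟩ := The.z_ord _ _ (h1.prod Th9.nets_iv) (r1.prod Th9.nets_rel)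
  obtain ⟨f2, -⟩ := The.z_ord _ _ h1 r1
  have s0 : ∀ x ∈ [1, 3, 4, 5, 6, 7], x ∈ LC := by decide
  have f3 : Finite (cl γ [1, 3, 4, 5, 6, 7]) := Finite.of_injective _ (Subgroup.inclusion_injective (cl_mono s0))
  have b2 : Nat.card (cl γ LD) ≤ 819 * Nat.card (cl γ [1, 3, 4, 5, 6, 7]) := (The.TD_idx.card_le _ h1
    (h2.mono (by decide +kernel)) fun w hw => ev_mem fun x hx => mem_cl (by revert x w; decide)).2
  have b3 := (The.a_ord _ _ Th9.nets_iv (Th9.nets_rel.mono (by decide +kernel))).2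
  have b4 : Nat.card (cl γ [1, 3, 4, 5, 6, 7]) ≤ Nat.card (cl γ LC) := Subgroup.card_le_of_le (cl_mono s0)
  have e0 : cl (gp Th9.nets) [1, 3, 4, 5, 6, 7] = cl (gp Th9.nets) [4, 5, 6, 7] :=
    le_antisymm (cl_le.2 fun x hx => by
      rcases (by revert x; decide : ([x], 0) ∈ [([1], 0), ([3], 0)] ∨ x ∈ [4, 5, 6, 7]) with k | k
      · have := Th9.triv _ k
        rw [zero_add, pow_one, ev_single] at this
        rw [this]; exact Subgroup.one_mem _
      · exact mem_cl k) (cl_mono (by decide))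
  rw [d_card h1 h2 h] at b2
  set π : ℕ → Γ × Equiv.Perm ℕ := fun x => (γ x, gp Th9.nets x)
  have k1 := fun M => card_map_ker (MonoidHom.snd Γ (Equiv.Perm ℕ)) (cl π M)
  have k2 := fun M => card_map_ker (MonoidHom.fst Γ (Equiv.Perm ℕ)) (cl π M)
  have m1 : ∀ M, (cl π M).map (MonoidHom.snd Γ (Equiv.Perm ℕ)) = cl (gp Th9.nets) M := fun M => cl_map _ _ _
  have m2 : ∀ M, (cl π M).map (MonoidHom.fst Γ (Equiv.Perm ℕ)) = cl γ M := fun M => cl_map _ _ _
  simp only [m1] at k1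
  have f4 : Finite (cl π [1, 3, 4, 5, 6, 7]) := Finite.of_injective _ (Subgroup.inclusion_injective (cl_mono s0))
  have f5 : Finite ((MonoidHom.snd Γ (Equiv.Perm ℕ)).ker ⊓ cl π LC : Subgroup _) :=
    Finite.of_injective _ (Subgroup.inclusion_injective inf_le_right)
  have b5 : Nat.card (cl γ [1, 3, 4, 5, 6, 7]) ≤ Nat.card (cl π [1, 3, 4, 5, 6, 7]) :=
    m2 _ ▸ Nat.le_of_dvd Nat.card_pos (Subgroup.card_map_dvd _ _)
  have b6 := Subgroup.card_le_of_le (inf_le_inf_left (MonoidHom.snd Γ (Equiv.Perm ℕ)).ker (cl_mono (γ := π) s0))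
  have b7 := k1 [1, 3, 4, 5, 6, 7]
  have b8 := k1 LC
  rw [e0] at b7
  have key : ∀ a b c d e f g : ℕ, a ≤ 92897280 → 211341312 ≤ 819 * b → c ≤ 504 → b ≤ d → e ≤ f → c * e = d →
      g * f = a → 181440 ≤ g → a = 92897280 ∧ f = 512 ∧ g = 181440 ∧ 512 < b := fun a b c d e f g _ _ _ _ _ _ _ _ => by
    have : 512 ≤ e := by nlinarith
    obtain rfl : g = 181440 := by nlinarith
    omega
  obtain ⟨a1, a2, a3, a4⟩ := key _ _ _ _ _ _ _ b1 b2 b3 b5 b6 b7 b8 Th9.lb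
  obtain ⟨e⟩ := Th9.alt a3
  have r2 : ∀ {Q : Type} [Group Q] (f : Γ × Equiv.Perm ℕ →* Q), (f.comp (cl π LC).subtype).range = (cl π LC).map f :=
    fun f => by rw [MonoidHom.range_comp, Subgroup.range_subtype]
  have i := two_proj ((MonoidHom.snd Γ (Equiv.Perm ℕ)).comp (cl π LC).subtype)
    ((MonoidHom.fst Γ (Equiv.Perm ℕ)).comp (cl π LC).subtype)
    (by rw [r2, m1]; exact have := alternatingGroup.isSimpleGroup (α := Fin 9) (by simp); e.isSimpleGroup)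
    ((Subgroup.eq_bot_iff_forall _).2 fun g hg => Subtype.ext (Prod.ext hg.2 hg.1)) (by
      rw [r2, m2, ← MonoidHom.comap_ker, ← Subgroup.subgroupOf, ← Subgroup.inf_subgroupOf_right,
        Nat.card_congr (Subgroup.subgroupOfEquivOfLe inf_le_right).toEquiv, a2]
      exact a4.trans_le b4)
  refine ⟨?_, a3⟩
  rw [← a1, ← m2, ← r2]
  exact (Nat.card_congr (MonoidHom.ofInjective i).toEquiv).symm

end Cfsg.Lib.Comp.Th
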